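import Groth.Agent.TorDimDualLib.Crit
import Groth.Agent.BidualUnbLib.Basic

/-!
# Finite Tor dimension versus finite injective dimension of the dual
-/

set_option autoImplicit false
set_option linter.all false
set_option backward.isDefEq.respectTransparency false
set_option backward.isDefEq.respectTransparency.types false
set_option maxHeartbeats 1000000

universe u

open CategoryTheory CategoryTheory.Limits MonoidalCategory
open Groth.Agent DTen DTenLib
open Groth.Agent.DualCxLib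
open DTenLib.Point (hH sg kM)

attribute [local instance] HasDerivedCategory.standard

noncomputable section

namespace TorDimDualLib

variable {A : Type u} [CommRing A] [IsNoetherianRing A]
variable [HasLTen A] [HasLTen₃ A] [IsSymMonoidal A] [HasRHom A]

/-- Exchanging the two arguments of `RHom(-, ω)`. -/
theorem nonempty_flip (X G ω : Dual.D A) (j : ℤ) :
    Nonempty ((G ⟶ ((RHomR A X).obj ω)⟦j⟧) ≃ₗ[A] (X ⟶ ((RHomR A G).obj ω)⟦j⟧)) := by
  obtain ⟨eX⟩ := nonempty_tensor_shiftUnit X (-j)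
  obtain ⟨eG⟩ := nonempty_tensor_shiftUnit G (-j)
  let eT : (LTen₂ A).obj (X⟦-j⟧, G) ≅ (LTen₂ A).obj (G⟦-j⟧, X) :=
    (tensorRightD A G).mapIso eX.symm ≪≫ DTen.associator _ X G ≪≫
      ((LTen A).obj _).mapIso (DTen.braiding G X) ≪≫ (DTen.associator _ G X).symm ≪≫
        (tensorRightD A X).mapIso eG
  exact ⟨((shiftL G _ j).symm.trans (homLEquiv _ X ω).symm).trans
    ((precompL eT.symm ω).trans ((homLEquiv _ G ω).trans (shiftL X _ j)))⟩

/-- `H^i RHom(K, ω) = Ext^i(K, ω)`. -/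
theorem nonempty_HD_RHom (K ω : Dual.D A) (i : ℤ) :
    Nonempty (Dual.HD A ((RHomR A K).obj ω) i ≃ₗ[A] (K ⟶ ω⟦i⟧)) := by
  obtain ⟨e⟩ := nonempty_tensor_shiftUnit K (-i)
  obtain ⟨u⟩ := nonempty_unit_iso (A := A)
  let R := (RHomR A K).obj ω
  let Φ : (Dual.inD A A ⟶ R⟦i⟧) ≃ₗ[A] (K ⟶ ω⟦i⟧) :=
    ((precompL u.symm (R⟦i⟧)).trans (shiftL (unit A) R i).symm).trans
      (((homLEquiv _ _ _).symm.trans (precompL e ω)).trans (shiftL K ω i))
  exact ⟨(extHL R i).symm.trans Φ⟩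

theorem bwd {ω : Dual.D A} (hω : Dual.IsDualizing A ω) {G : Dual.D A}
    (hG : ∀ i, Module.Finite A ((hH A i).obj G)) {a b : ℤ}
    (hGb : ∀ i, (i < a ∨ b < i) → IsZero ((hH A i).obj G))
    (hD : DRing.HasFiniteInjDim A ((RHomR A G).obj ω)) : DRing.HasFiniteTorDimCx A G := by
  obtain ⟨a', b', hab⟩ := hω.finite_injective_dimension
  obtain ⟨c₀, d₀, hcd⟩ := hD
  refine hasFiniteTorDimCx_of_hom_residue hG hGb (a' - d₀) fun m hm l hl => ?_
  obtain ⟨c, hc0, ⟨ec⟩⟩ := ext_residueField_single_degree ω hω m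
  have hnt : Nontrivial (A ⧸ m) := Ideal.Quotient.nontrivial_iff.2 hm.ne_top
  have hca : a' ≤ c := by
    by_contra hca
    haveI := hab (A ⧸ m) c (Or.inl (by omega))
    haveI := ec.symm.toEquiv.subsingleton
    exact not_subsingleton (A ⧸ m) inferInstance
  let k : Dual.D A := sg (kM m) 0
  let X : Dual.D A := (RHomR A k).obj ω
  have hXz : ∀ i, i ≠ c → IsZero ((hH A i).obj X) := fun i hi => by
    obtain ⟨Φ⟩ := nonempty_HD_RHom k ω i
    haveI : Subsingleton (k ⟶ ω⟦i⟧) := hc0 i hi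
    haveI : Subsingleton ((hH A i).obj X) := Φ.toEquiv.subsingleton
    exact ModuleCat.isZero_of_subsingleton _
  haveI : X.IsGE c := (DerivedCategory.isGE_iff X c).2 fun i hi => hXz i (by omega)
  haveI : X.IsLE c := (DerivedCategory.isLE_iff X c).2 fun i hi => hXz i (by omega)
  obtain ⟨M, ⟨eM⟩⟩ := DerivedCategory.exists_iso_singleFunctor_obj_of_isGE_of_isLE X c
  obtain ⟨Φc⟩ := nonempty_HD_RHom k ω c
  let eX : X ≅ sg (kM m) c := eM ≪≫ (DerivedCategory.singleFunctor (ModuleCat.{u} A) c).mapIso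
    (((hH A c).mapIso eM ≪≫ DTenLib.Point.sgH M c).symm ≪≫ (Φc.trans ec).toModuleIso)
  obtain ⟨B⟩ := BidualUnbLib.nonempty_biduality hω (K := k) fun i => by
    rcases eq_or_ne i 0 with rfl | hi
    · exact Module.Finite.equiv (DTenLib.Point.sgH (kM m) 0).toLinearEquiv.symm
    · haveI := ModuleCat.subsingleton_of_isZero (DTenLib.Point.isZero_sg (N := kM m) hi)
      exact inferInstanceAs (Module.Finite A ((hH A i).obj (sg (kM m) 0)))
  obtain ⟨Ψ⟩ := nonempty_flip X G ω (-l)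
  let D := (RHomR A G).obj ω
  have hsub : Subsingleton (X ⟶ D⟦-l⟧) := by
    let s : (sg (kM m) 0)⟦-c⟧ ≅ sg (kM m) c := DTenLib.Point.shiftSg _ 0 (-c) ≪≫ eqToIso (by simp)
    haveI := ext_of_hasInjAmplitudeIn hcd (A ⧸ m) (-l + c) (Or.inr (by omega))
    exact (((precompL (eX ≪≫ s.symm) (D⟦-l⟧)).trans (shiftL _ (D⟦-l⟧) c)).trans
      (postcompL _ (shift₂ D (-l) c (-l + c) rfl))).toEquiv.subsingleton_congr.2 this
  haveI : Subsingleton (G ⟶ ((RHomR A X).obj ω)⟦-l⟧) := Ψ.toEquiv.subsingleton_congr.2 hsub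
  let s : (sg (kM m) 0)⟦-l⟧ ≅ sg (kM m) l := DTenLib.Point.shiftSg _ 0 (-l) ≪≫ eqToIso (by simp)
  exact (postcompL G ((shiftFunctor _ (-l)).mapIso B ≪≫ s)).toEquiv.subsingleton_congr.1 inferInstance

theorem fwd {ω : Dual.D A} (hω : Dual.IsDualizing A ω) {G : Dual.D A}
    (hG : ∀ i, Module.Finite A ((hH A i).obj G)) {a b : ℤ}
    (hGb : ∀ i, (i < a ∨ b < i) → IsZero ((hH A i).obj G))
    (hT : DRing.HasFiniteTorDimCx A G) : DRing.HasFiniteInjDim A ((RHomR A G).obj ω) := by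
  obtain ⟨p, q, hpq⟩ := hT
  obtain ⟨P₀, b₀, hP₀⟩ := isPseudoCoherent'_of_finite b (fun i hi => hGb i (Or.inr hi)) hG
  obtain ⟨E, hEv, hEp, ⟨eE⟩⟩ := DRingLib.exists_finiteProjective_of_amplitude
    (DRingLib.isPseudoCoherent'_iff_forall.1 ⟨P₀, b₀, hP₀⟩ (p - 1)) hpq
  obtain ⟨a', ha'⟩ := isGE_dualizing hω
  obtain ⟨a'', b'', hinj⟩ := hasFiniteInjDim_of_ext hω.finite_injective_dimension
  refine hasFiniteInjDim_of_ext ⟨a' - q, b'' - p, fun N _ _ i hi => ?_⟩
  obtain ⟨Ψ⟩ := nonempty_flip (Dual.inD A N) G ω i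
  let Y := (RHomR A (Dual.inD A N)).obj ω
  have hYge : Y.IsGE (a' - 0) :=
    isGE_RHom (inferInstanceAs ((sg (ModuleCat.of A N) 0).IsLE 0)) ha'
  have hYle : Y.IsLE (b'' - 0) :=
    isLE_RHom hinj (inferInstanceAs ((sg (ModuleCat.of A N) 0).IsGE 0))
  refine Ψ.toEquiv.subsingleton_congr.1 (subsingleton_of_forall_eq 0 fun f => ?_)
  rcases hi with hi | hi
  · haveI : (Y⟦i⟧).IsGE (q + 1) := by
      haveI := DerivedCategory.TStructure.t.isGE_shift Y (a' - 0) i (a' - 0 - i) (by omega)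
      exact DerivedCategory.TStructure.t.isGE_of_ge (Y⟦i⟧) (q + 1) (a' - 0 - i) (by omega)
    haveI : (DerivedCategory.Q.obj E).IsLE q := (DerivedCategory.isLE_iff _ q).2 fun l hl =>
      DRingLib.isZero_Hn_Q E l (hEv l (Or.inr hl))
    rw [← cancel_epi eE.hom, comp_zero]
    exact DerivedCategory.TStructure.t.zero _ q (q + 1) (by omega)
  · haveI : (Y⟦i⟧).IsLE (p - 1) := by
      haveI := DerivedCategory.TStructure.t.isLE_shift Y (b'' - 0) i (b'' - 0 - i) (by omega)
      exact DerivedCategory.TStructure.t.isLE_of_le (Y⟦i⟧) (b'' - 0 - i) (p - 1) (by omega)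
    obtain ⟨Z, hZ, ⟨eZ⟩⟩ := DerivedCategory.exists_iso_Q_obj_of_isLE (Y⟦i⟧) (p - 1)
    haveI : ∀ l, Projective (E.X l) := fun l => by
      haveI := (hEp l).2
      exact (IsProjective.iff_projective (E.X l)).1 inferInstance
    haveI : E.IsStrictlyLE q := (CochainComplex.isStrictlyLE_iff E q).2 fun l hl => hEv l (Or.inr hl)
    haveI : E.IsKProjective := CochainComplex.isKProjective_of_projective E q
    obtain ⟨g, hg⟩ := (CochainComplex.IsKProjective.Qh_map_bijective E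
      ((HomotopyCategory.quotient _ (ComplexShape.up ℤ)).obj Z)).2
      ((DerivedCategory.quotientCompQhIso _).hom.app E ≫ (eE.hom ≫ f ≫ eZ.hom) ≫
        (DerivedCategory.quotientCompQhIso _).inv.app Z)
    obtain ⟨g, rfl⟩ := (HomotopyCategory.quotient _ (ComplexShape.up ℤ)).map_surjective g
    have h0 : g = 0 := HomologicalComplex.hom_ext _ _ fun l => by
      by_cases hl : l < p
      · exact (hEv l (Or.inl hl)).eq_of_src _ _
      · exact (CochainComplex.isZero_of_isStrictlyLE Z (p - 1) l (by omega)).eq_of_tgt _ _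
    rw [h0, Functor.map_zero, Functor.map_zero] at hg
    rw [← cancel_epi eE.hom, ← cancel_mono eZ.hom, comp_zero, zero_comp, Category.assoc,
      ← cancel_epi ((DerivedCategory.quotientCompQhIso _).hom.app E),
      ← cancel_mono ((DerivedCategory.quotientCompQhIso _).inv.app Z), comp_zero, zero_comp, Category.assoc]
    exact hg.symm

end TorDimDualLib
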