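import Mathlib

/-!
# A cokernel is projective if functionals with values in the closed residue fields extend
-/

set_option autoImplicit false
set_option linter.all false
set_option backward.isDefEq.respectTransparency false
set_option backward.isDefEq.respectTransparency.types false

universe u

open scoped TensorProduct

namespace TorDimDualLib

variable {A : Type u} [CommRing A] [IsNoetherianRing A]

theorem projective_quotient_of_extend {F : Type u} [AddCommGroup F] [Module A F] [Module.Finite A F]
    [Module.Free A F] (B : Submodule A F)
    (h : ∀ (m : Ideal A) [m.IsMaximal] (g : B →ₗ[A] m.ResidueField),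
      ∃ s : F →ₗ[A] m.ResidueField, ∀ b : B, s b = g b) :
    Module.Projective A (F ⧸ B) := by
  haveI : Module.FinitePresentation A (F ⧸ B) := Module.finitePresentation_of_finite A _
  refine Module.projective_of_localization_maximal fun m hm => ?_
  haveI := hm
  let p : PrimeSpectrum A := ⟨m, hm.isPrime⟩
  let Ap := Localization.AtPrime m
  let k := m.ResidueField
  suffices hp : p ∈ Module.freeLocus A (F ⧸ B) by
    haveI : Module.Free (Localization m.primeCompl) (LocalizedModule m.primeCompl (F ⧸ B)) := hp
    infer_instance
  rw [Module.mem_freeLocus_iff_tensor p Ap]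
  have hinj : Function.Injective (B.subtype.baseChange k) := by
    refine (injective_iff_map_eq_zero _).2 fun z hz => (Module.forall_dual_apply_eq_zero_iff k z).1 fun ψ => ?_
    let g : B →ₗ[A] k := (ψ.restrictScalars A).comp (TensorProduct.mk A k B 1)
    obtain ⟨s, hs⟩ := h m g
    let s' : k ⊗[A] F →ₗ[k] k := s.liftBaseChange k
    have : ψ = s'.comp (B.subtype.baseChange k) := by
      refine TensorProduct.AlgebraTensorModule.ext fun c b => ?_
      have h1 : s (b : F) = ψ ((1 : k) ⊗ₜ[A] b) := hs b
      have h2 : c ⊗ₜ[A] b = c • ((1 : k) ⊗ₜ[A] b) := by
        rw [TensorProduct.smul_tmul', smul_eq_mul, mul_one]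
      rw [h2, map_smul, map_smul]
      have h3 : s' ((1 : k) ⊗ₜ[A] (b : F)) = s (b : F) :=
        (LinearMap.liftBaseChange_tmul k s _ _).trans (one_smul k _)
      exact congrArg (c • ·) (h1.symm.trans h3.symm)
    rw [this, LinearMap.comp_apply, hz, map_zero]
  haveI : Module.Finite A B := inferInstance
  refine Module.free_of_lTensor_residueField_injective (B.subtype.baseChange Ap)
    (B.mkQ.baseChange Ap)
    (LinearMap.lTensor_surjective Ap (Submodule.mkQ_surjective _))
    (lTensor_exact Ap (LinearMap.exact_subtype_mkQ B) (Submodule.mkQ_surjective _)) ?_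
  let cP := TensorProduct.AlgebraTensorModule.cancelBaseChange A Ap k k B
  let cF := TensorProduct.AlgebraTensorModule.cancelBaseChange A Ap k k F
  have key : ∀ z : k ⊗[Ap] (Ap ⊗[A] B),
      cF ((B.subtype.baseChange Ap).lTensor k z) = B.subtype.baseChange k (cP z) := by
    intro z
    induction z using TensorProduct.induction_on with
    | zero => simp
    | add x y hx hy => simp [hx, hy]
    | tmul c w =>
      induction w using TensorProduct.induction_on with
      | zero => simp
      | add x y hx hy => rw [TensorProduct.tmul_add, map_add, map_add, map_add, map_add, hx, hy]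
      | tmul a m => simp [cP, cF]
  intro x y hxy
  exact cP.injective (hinj ((key x).symm.trans ((congrArg cF hxy).trans (key y))))

end TorDimDualLib
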