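import Groth.Agent.TorDimDualLib.Algebra
import Groth.Agent.DRingLib.ProjAmplitude
import Groth.Agent.DTenLib.PointObj
import Groth.Agent.DualCxLib.Biduality

/-!
# Finite Tor dimension from maps to the closed residue fields
-/

set_option autoImplicit false
set_option linter.all false
set_option backward.isDefEq.respectTransparency false
set_option backward.isDefEq.respectTransparency.types false

universe u

open CategoryTheory CategoryTheory.Limits HomologicalComplex
open Groth.Agent
open DTenLib.Point (hH sg kM)

attribute [local instance] HasDerivedCategory.standard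

noncomputable section

namespace TorDimDualLib

variable {A : Type u} [CommRing A] [IsNoetherianRing A]

/-- The residue field of a maximal ideal is `A ⧸ m`. -/
def residueIso (m : Ideal A) [m.IsMaximal] : kM m ≅ ModuleCat.of A m.ResidueField :=
  (LinearEquiv.ofBijective (Algebra.linearMap (A ⧸ m) m.ResidueField |>.restrictScalars A)
    (Ideal.bijective_algebraMap_quotient_residueField m)).toModuleIso

theorem hasFiniteTorDimCx_of_hom_residue {K : Dual.D A} (hK : ∀ i, Module.Finite A ((hH A i).obj K))
    {a b : ℤ} (hKb : ∀ i, (i < a ∨ b < i) → IsZero ((hH A i).obj K)) (N : ℤ)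
    (h : ∀ (m : Ideal A) [m.IsMaximal] (l : ℤ), l < N → Subsingleton (K ⟶ sg (kM m) l)) :
    DRing.HasFiniteTorDimCx A K := by
  obtain ⟨P, b', hPb, hPf, ⟨e⟩⟩ :=
    DualCxLib.isPseudoCoherent'_of_finite b (fun i hi => hKb i (Or.inr hi)) hK
  have hfree : ∀ i, Module.Free A (P.X i) := fun i => (hPf i).2
  haveI : P.IsKProjective := DRingLib.isKProjective_of_free P b' hPb hfree
  let n : ℤ := min a N
  have hex : ∀ i, i < n → P.ExactAt i := fun i hi => (exactAt_iff_isZero_homology P i).2 <|
    DRingLib.isZero_homology_of_Hn ((hKb i (Or.inl (by omega))).of_iso ((hH A i).mapIso e))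
  haveI : ∀ i, Module.Finite A (P.X i) := fun i => (hPf i).1
  haveI hproj : Module.Projective A (P.X n ⧸ LinearMap.range (P.d (n - 1) n).hom) := by
    haveI := hfree n
    refine projective_quotient_of_extend _ fun m hm g => ?_
    let κ := ModuleCat.of A m.ResidueField
    let f : P.X (n - 1) ⟶ κ := ModuleCat.ofHom (g.comp (P.d (n - 1) n).hom.rangeRestrict)
    let φ : P ⟶ (single (ModuleCat.{u} A) (ComplexShape.up ℤ) (n - 1)).obj κ :=
      mkHomToSingle f fun i hi => by
        refine ModuleCat.hom_ext (LinearMap.ext fun x => ?_)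
        show g ((P.d (n - 1) n).hom.rangeRestrict ((P.d i (n - 1)).hom x)) = 0
        rw [show (P.d (n - 1) n).hom.rangeRestrict ((P.d i (n - 1)).hom x) = 0 from Subtype.ext (by
          show (P.d (n - 1) n).hom ((P.d i (n - 1)).hom x) = 0
          rw [← LinearMap.comp_apply, ← ModuleCat.hom_comp, P.d_comp_d]
          rfl), map_zero]
    have hz : DerivedCategory.Q.map φ = 0 := by
      haveI := h m (n - 1) (by omega)
      haveI : Subsingleton (DerivedCategory.Q.obj P ⟶
          DerivedCategory.Q.obj ((single (ModuleCat.{u} A) (ComplexShape.up ℤ) (n - 1)).obj κ)) :=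
        (e.homCongr ((((DerivedCategory.singleFunctorIsoCompQ (ModuleCat.{u} A) (n - 1)).app κ).symm ≪≫
          (DerivedCategory.singleFunctor (ModuleCat.{u} A) (n - 1)).mapIso (residueIso m).symm))).subsingleton_congr.2
          inferInstance
      exact Subsingleton.elim _ _
    have hq : (HomotopyCategory.quotient _ (ComplexShape.up ℤ)).map φ = 0 := by
      refine (CochainComplex.IsKProjective.Qh_map_bijective P _).1 ?_
      rw [Functor.map_zero]
      have h1 := (DerivedCategory.quotientCompQhIso (ModuleCat.{u} A)).hom.naturality φ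
      rw [hz, comp_zero] at h1
      exact (cancel_mono ((DerivedCategory.quotientCompQhIso (ModuleCat.{u} A)).hom.app _)).1
        (h1.trans zero_comp.symm)
    obtain ⟨H⟩ : Nonempty (Homotopy φ 0) :=
      ⟨HomotopyCategory.homotopyOfEq _ _ (hq.trans (Functor.map_zero _ _ _).symm)⟩
    refine ⟨(H.hom n (n - 1) ≫ (singleObjXSelf (ComplexShape.up ℤ) (n - 1) κ).hom).hom, fun y => ?_⟩
    obtain ⟨y, x, rfl⟩ := y
    have hc := H.comm (n - 1)
    rw [dNext_eq _ (show (ComplexShape.up ℤ).Rel (n - 1) n by simp),
      prevD_eq _ (show (ComplexShape.up ℤ).Rel (n - 1 - 1) (n - 1) by simp), mkHomToSingle_f] at hc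
    simp only [single_obj_d, comp_zero, add_zero, HomologicalComplex.zero_f] at hc
    have hf : f = P.d (n - 1) n ≫ H.hom n (n - 1) ≫ (singleObjXSelf (ComplexShape.up ℤ) (n - 1) κ).hom := by
      rw [← Category.assoc, ← hc, Category.assoc, Iso.inv_hom_id, Category.comp_id]
    exact (LinearMap.congr_fun (congrArg ModuleCat.Hom.hom hf) x).symm
  have hEp : ∀ i, Module.Projective A ((P.truncGE n).X i) := fun i => by
    rcases lt_trichotomy i n with hi | rfl | hi
    · haveI := DRingLib.free_of_isZero (R := A) (DRingLib.vanishesOutside_truncGE hPb n i (Or.inl hi))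
      infer_instance
    · exact Module.Projective.of_equiv (DRingLib.truncGEXCoker P n).toLinearEquiv.symm
    · haveI := hfree i
      exact Module.Projective.of_equiv (P.truncGEXIso n i hi).toLinearEquiv.symm
  haveI : P.IsGE n := (CochainComplex.isGE_iff P n).2 hex
  haveI : QuasiIso (P.πTruncGE n) := (CochainComplex.quasiIso_πTruncGE_iff P n).mpr inferInstance
  exact ⟨n, b', DRingLib.hasTorAmplitudeIn_of_projective (DRingLib.vanishesOutside_truncGE hPb n) hEp
    ((asIso (DerivedCategory.Q.map (P.πTruncGE n))).symm ≪≫ e)⟩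

end TorDimDualLib
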